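import Groth.Agent.GrpHomRep.Dict
import Groth.Agent.MTBridge.TrivAct
import Groth.Agent.HopfKrull.Basic

/-!
# Diagonalisable subgroups of connected nilpotent affine algebraic groups are central (split case)
-/

set_option autoImplicit false
set_option linter.style.haveILetI false
set_option linter.unusedSectionVars false
set_option backward.isDefEq.respectTransparency false
set_option maxHeartbeats 1000000

universe u

open CategoryTheory Limits MonoidalCategory CartesianMonoidalCategory AlgebraicGeometry TensorProduct WithConv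
open MonoidAlgebra
open scoped CategoryTheory.Obj MonObj commutatorElement

noncomputable section

namespace Groth.Agent.GrpNilCentral

open Groth.Agent.MTBridge Groth.Agent.GrpHomRep

variable {k : Type u} [Field k] {A : Type u} [CommRing A] [HopfAlgebra k A] {N : Type u} [CommGroup N]
  (v : DH k N ⟶ AG k A)

/-- The image in `G` of a character point. -/
def chPt {B : Type u} [CommRing B] [Algebra k B] (χ : N →* B) : Pt (AG k A) B :=
  spMap (MonoidAlgebra.lift k B N χ) ≫ v

variable {B B' : Type u} [CommRing B] [Algebra k B] [CommRing B'] [Algebra k B']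

theorem chPt_comp (f : B →ₐ[k] B') (χ : N →* B) :
    spMap f ≫ chPt v χ = chPt v ((f : B →* B').comp χ) := by
  rw [chPt, chPt, ← Category.assoc, spMap_comp]
  refine congrArg (fun q => spMap q ≫ v) (MonoidAlgebra.algHom_ext (fun k => ?_) (by ext))
  simp

/-- Conjugation by a character point. -/
def cj (χ : N →* B) (x : Pt (AG k A) B) : Pt (AG k A) B := chPt v χ * x * (chPt v χ)⁻¹

theorem cj_comp (f : B →ₐ[k] B') (χ : N →* B) (x : Pt (AG k A) B) :
    spMap f ≫ cj v χ x = cj v ((f : B →* B').comp χ) (spMap f ≫ x) := by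
  rw [cj, cj, MonObj.comp_mul, MonObj.comp_mul, GrpObj.comp_inv, chPt_comp]

theorem cj_one (χ : N →* B) : cj v χ 1 = 1 := by rw [cj, mul_one, mul_inv_cancel]

theorem exists_ψ : ∃ f : A →ₐ[k] MonoidAlgebra A N,
    cj v (MonoidAlgebra.of A N) (spMap (R := k) (MonoidAlgebra.singleOneAlgHom : A →ₐ[k] MonoidAlgebra A N)) =
      spMap f :=
  exists_pt _

/-- The coaction of the conjugation. -/
def ψ : A →ₐ[k] MonoidAlgebra A N := (exists_ψ v).choose

theorem ψ_spec :
    cj v (MonoidAlgebra.of A N) (spMap (R := k) (MonoidAlgebra.singleOneAlgHom : A →ₐ[k] MonoidAlgebra A N)) =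
      spMap (ψ v) :=
  (exists_ψ v).choose_spec

attribute [irreducible] ψ

theorem cj_eq (χ : N →* B) (x : A →ₐ[k] B) : cj v χ (spMap x) = spMap (evAct (R := k) (A := A) (M := N) (ψ v) χ x) := by
  let Φ : MonoidAlgebra A N →ₐ[k] B := MonoidAlgebra.liftNCAlgHom x χ fun _ _ => Commute.all _ _
  have h := congrArg (fun q => spMap Φ ≫ q) (ψ_spec v)
  simp only [cj_comp, spMap_comp] at h
  rw [show (Φ : MonoidAlgebra A N →* B).comp (MonoidAlgebra.of A N) = χ from
      MonoidHom.ext fun j => by simp [Φ, liftNCAlgHom, liftNCRingHom],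
    show Φ.comp MonoidAlgebra.singleOneAlgHom = x from AlgHom.ext fun j => by
      simp [Φ, liftNCAlgHom, liftNCRingHom, singleOneAlgHom_apply]] at h
  exact h

/-- The component of a weight. -/
def proj (m : N) : A →ₗ[k] A :=
  ((Finsupp.lapply m).comp (coeffLinearEquiv k).toLinearMap).comp (ψ v).toLinearMap

theorem proj_apply (m : N) (a : A) : proj v m a = (ψ v a).coeff m := rfl

/-- The counit vanishes on the nontrivial weights. -/
theorem counit_proj (m : N) (hm : m ≠ 1) (a : A) : Bialgebra.counitAlgHom k A (proj v m a) = 0 := by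
  classical
  let ε : A →ₐ[k] MonoidAlgebra k N := (Algebra.ofId k _).comp (Bialgebra.counitAlgHom k A)
  have h : evAct (R := k) (A := A) (M := N) (ψ v) (MonoidAlgebra.of k N) ε = ε := spMap_inj (by
    rw [← cj_eq, ← pt_one, cj_one])
  have h' := congrArg (fun z => z.coeff m) (AlgHom.congr_fun h a)
  simp only [evAct_apply] at h'
  rw [Finsupp.sum, coeff_sum, Finsupp.finsetSum_apply, Finset.sum_eq_single m] at h'
  · simpa [ε, proj_apply, MonoidAlgebra.of_apply, single_mul_single, hm, Finsupp.single_eq_of_ne hm] using h'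
  · intro j _ hj
    simp [ε, MonoidAlgebra.of_apply, single_mul_single, hj]
  · intro h0
    simp [ε, MonoidAlgebra.of_apply, Finsupp.notMem_support_iff.1 h0]

theorem sum_proj [IsMonHom v] (a : A) : ((ψ v a).coeff.sum fun _ c => c) = a := by
  have hP : chPt v (1 : N →* A) = 1 := by
    rw [chPt, ← MonObj.one_comp v]
    refine congrArg (fun q => q ≫ v) ?_
    rw [pt_one]
    exact congrArg spMap (MonoidAlgebra.algHom_ext (fun j => by simp) (by ext))
  have h : evAct (R := k) (A := A) (M := N) (ψ v) (1 : N →* A) (AlgHom.id k A) = AlgHom.id k A := spMap_inj (by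
    rw [← cj_eq, cj, hP, one_mul, inv_one, mul_one])
  have h' := AlgHom.congr_fun h a
  rw [evAct_apply] at h'
  simpa using h'

open scoped Classical in
/-- The weight components are orthogonal idempotents. -/
theorem proj_proj [IsMonHom v] (m n : N) (a : A) :
    proj v n (proj v m a) = if m = n then proj v m a else 0 := by
  let W := MonoidAlgebra A N
  let inW : W →ₐ[k] MonoidAlgebra W N := singleOneAlgHom
  let g : N →* MonoidAlgebra W N := MonoidAlgebra.of W N
  let h : N →* MonoidAlgebra W N := (inW : W →* MonoidAlgebra W N).comp (MonoidAlgebra.of A N)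
  let x : A →ₐ[k] MonoidAlgebra W N := inW.comp singleOneAlgHom
  have hmul : chPt v (g * h) = chPt v g * chPt v h := by
    rw [chPt, chPt, chPt, ← MonObj.mul_comp, HomRep.spMap_mul]
    refine congrArg (fun q => spMap q ≫ v) (MonoidAlgebra.algHom_ext (fun j => ?_) (by ext))
    simp [AlgHom.convMul_apply]
  have e : evAct (R := k) (A := A) (M := N) (ψ v) (g * h) x = evAct (R := k) (A := A) (M := N) (ψ v) g (evAct (R := k) (A := A) (M := N) (ψ v) h x) := spMap_inj (by
    rw [← cj_eq, ← cj_eq, ← cj_eq]
    simp only [cj, hmul, mul_inv_rev, mul_assoc])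
  have e1 : evAct (R := k) (A := A) (M := N) (ψ v) h x = inW.comp (ψ v) := by
    refine congrArg (fun f => AlgHom.comp f (ψ v)) (MonoidAlgebra.algHom_ext (fun j => ?_) ?_)
    · simp [h, liftNCAlgHom, liftNCRingHom]
      rfl
    · ext c
      simp [x, inW, liftNCAlgHom, liftNCRingHom]
      rfl
  rw [e1] at e
  have e2 := congrArg (fun f : A →ₐ[k] MonoidAlgebra W N => ((f a).coeff m).coeff n) e
  simp only [evAct_apply, MonoidHom.mul_apply] at e2
  have l : (((((ψ v) a).coeff.sum fun j c => x c * (g j * h j)).coeff m).coeff n) =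
      if m = n then proj v m a else 0 := by
    rw [Finsupp.sum, coeff_sum, Finsupp.finsetSum_apply, coeff_sum, Finsupp.finsetSum_apply,
      Finset.sum_eq_single m]
    · change (((single 1 (single 1 (proj v m a)) : MonoidAlgebra W N) *
        (single m 1 * single 1 (single m 1))).coeff m).coeff n = _
      simp [W, single_mul_single, proj_apply, Finsupp.single_apply]
    · intro j _ hj
      simp [x, g, h, inW, singleOneAlgHom_apply, MonoidAlgebra.of_apply, single_mul_single, hj]
    · intro hm
      simp [x, g, h, inW, singleOneAlgHom_apply, MonoidAlgebra.of_apply, single_mul_single, Finsupp.notMem_support_iff.1 hm]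
  have r : (((((ψ v) a).coeff.sum fun j c => (inW.comp (ψ v)) c * g j).coeff m).coeff n) =
      proj v n (proj v m a) := by
    rw [Finsupp.sum, coeff_sum, Finsupp.finsetSum_apply, coeff_sum, Finsupp.finsetSum_apply,
      Finset.sum_eq_single m]
    · change (((single 1 (ψ v (proj v m a)) : MonoidAlgebra W N) * single m 1).coeff m).coeff n = _
      simp [W, single_mul_single, proj_apply]
      try rfl
    · intro j _ hj
      simp [g, inW, singleOneAlgHom_apply, MonoidAlgebra.of_apply, single_mul_single, hj]
    · intro hm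
      simp [g, inW, singleOneAlgHom_apply, MonoidAlgebra.of_apply, single_mul_single, Finsupp.notMem_support_iff.1 hm]
  exact r.symm.trans (e2.symm.trans l)

section Ideal

variable {R : Type u} [CommRing R]

theorem coeff_mem {J : Ideal R} {z : MonoidAlgebra R N}
    (hz : z ∈ J.map (singleOneRingHom : R →+* MonoidAlgebra R N)) (m : N) : z.coeff m ∈ J := by
  let p : MonoidAlgebra R N →+* MonoidAlgebra (R ⧸ J) N := MonoidAlgebra.mapRingHom N (Ideal.Quotient.mk J)
  have h : J.map (singleOneRingHom : R →+* MonoidAlgebra R N) ≤ RingHom.ker p := by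
    rw [Ideal.map_le_iff_le_comap]
    intro c hc
    simp [p, singleOneRingHom, Ideal.Quotient.eq_zero_iff_mem.2 hc]
  have h' := congrArg (fun q => q.coeff m) (RingHom.mem_ker.1 (h hz))
  rw [← Ideal.Quotient.eq_zero_iff_mem]
  simpa [p] using h'

theorem mem_of_coeff {J : Ideal R} {z : MonoidAlgebra R N} (hz : ∀ m, z.coeff m ∈ J) :
    z ∈ J.map (singleOneRingHom : R →+* MonoidAlgebra R N) := by
  classical
  have hs : z = ∑ m ∈ z.coeff.support, singleOneRingHom (z.coeff m) * MonoidAlgebra.single m 1 := by
    refine MonoidAlgebra.ext (Finsupp.ext fun j => ?_)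
    simp [singleOneRingHom, coeff_sum, Finsupp.finsetSum_apply, single_mul_single, Finsupp.single_apply]
  rw [hs]
  exact Ideal.sum_mem _ fun m _ => Ideal.mul_mem_right _ _ (Ideal.mem_map_of_mem _ (hz m))

end Ideal

variable (A) in
/-- The augmentation ideal. -/
abbrev aug : Ideal A := RingHom.ker (Bialgebra.counitAlgHom k A)

theorem proj_mem_aug {a : A} (ha : a ∈ aug A (k := k)) [IsMonHom v] (m : N) : proj v m a ∈ aug A (k := k) := by
  classical
  by_cases hm : m = 1
  · subst hm
    have h := congrArg (Bialgebra.counitAlgHom k A) (sum_proj v a)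
    rw [map_finsuppSum, Finsupp.sum, Finset.sum_eq_single 1] at h
    · exact h.trans ha
    · exact fun j _ hj => counit_proj v j hj a
    · intro h0
      simp [Finsupp.notMem_support_iff.1 h0]
  · exact counit_proj v m hm a

theorem ψ_mem [IsMonHom v] {a : A} (ha : a ∈ aug A (k := k)) :
    ψ v a ∈ (aug A (k := k)).map (singleOneRingHom : A →+* MonoidAlgebra A N) :=
  mem_of_coeff fun m => proj_mem_aug v ha m

/-- The point with a tangent vector scaled by an element of square zero. -/
def tpt (d : A →ₗ[k] k) (h1 : d 1 = 0)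
    (hd : ∀ a c : A, d (a * c) = Bialgebra.counitAlgHom k A a * d c + Bialgebra.counitAlgHom k A c * d a)
    (b : B) (hb : b * b = 0) : A →ₐ[k] B :=
  AlgHom.ofLinearMap ((Algebra.linearMap k B).comp (Bialgebra.counitAlgHom k A).toLinearMap + d.smulRight b)
    (by simp [h1]) (fun a c => by
      simp only [LinearMap.add_apply, LinearMap.comp_apply, AlgHom.toLinearMap_apply, map_mul, map_add,
        Algebra.linearMap_apply, LinearMap.smulRight_apply, hd, Algebra.smul_def]
      linear_combination (-(algebraMap k B (d a) * algebraMap k B (d c))) * hb)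

theorem tpt_apply (d : A →ₗ[k] k) (h1 : d 1 = 0)
    (hd : ∀ a c : A, d (a * c) = Bialgebra.counitAlgHom k A a * d c + Bialgebra.counitAlgHom k A c * d a)
    (b : B) (hb : b * b = 0) (a : A) :
    tpt d h1 hd b hb a = algebraMap k B (Bialgebra.counitAlgHom k A a) + d a • b := rfl

section Tangent

open scoped Classical

variable (d : A →ₗ[k] k) (h1 : d 1 = 0)
  (hd : ∀ a c : A, d (a * c) = Bialgebra.counitAlgHom k A a * d c + Bialgebra.counitAlgHom k A c * d a)

theorem tpt_comp (f : B →ₐ[k] B') (b : B) (hb : b * b = 0) :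
    f.comp (tpt d h1 hd b hb) = tpt d h1 hd (f b) (by rw [← map_mul, hb, map_zero]) :=
  AlgHom.ext fun a => by simp [tpt_apply]

theorem tpt_mul (b b' : B) (hb : b * b = 0) (hb' : b' * b' = 0) (hbb : b * b' = 0)
    (hs : (b + b') * (b + b') = 0) :
    (spMap (tpt d h1 hd b hb) * spMap (tpt d h1 hd b' hb') : Pt (AG k A) B) =
      spMap (tpt d h1 hd (b + b') hs) := by
  rw [HomRep.spMap_mul]
  refine congrArg spMap (AlgHom.ext fun a => ?_)
  rw [AlgHom.convMul_apply]
  let ε : A →ₗ[k] k := Coalgebra.counit
  have key : ∀ z : A ⊗[k] A,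
      Algebra.TensorProduct.lift (tpt d h1 hd b hb) (tpt d h1 hd b' hb') (fun _ _ => Commute.all _ _) z =
        algebraMap k B (ε (TensorProduct.rid k A (ε.lTensor A z))) + d (TensorProduct.rid k A (ε.lTensor A z)) • b +
          d (TensorProduct.lid k A (ε.rTensor A z)) • b' := by
    intro z
    induction z using TensorProduct.induction_on with
    | zero => simp
    | tmul p q =>
      simp only [Algebra.TensorProduct.lift_tmul, tpt_apply, LinearMap.lTensor_tmul, LinearMap.rTensor_tmul,
        TensorProduct.rid_tmul, TensorProduct.lid_tmul, map_smul, smul_eq_mul, ε,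
        Bialgebra.counitAlgHom_apply, map_add]
      simp only [Algebra.smul_def, Algebra.algebraMap_self, RingHom.id_apply, map_mul]
      linear_combination algebraMap k B (d p) * algebraMap k B (d q) * hbb
    | add x y hx hy => simp only [map_add, hx, hy, add_smul]; abel
  have hk := key (Coalgebra.comul (R := k) a)
  rw [Coalgebra.lTensor_counit_comul, Coalgebra.rTensor_counit_comul] at hk
  refine Eq.trans ?_ (hk.trans ?_)
  · induction Coalgebra.comul (R := k) a using TensorProduct.induction_on with
    | zero => simp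
    | tmul p q => simp
    | add x y hx hy => simp only [map_add, hx, hy]
  · simp [tpt_apply, ε, add_assoc]

theorem tpt_zero : (spMap (tpt d h1 hd (0 : B) (by simp)) : Pt (AG k A) B) = 1 := by
  rw [pt_one]
  exact congrArg spMap (AlgHom.ext fun a => by simp [tpt_apply])

theorem cj_tpt [IsMonHom v] (χ₀ : N) (hχ : ∀ m a, d (proj v m a) = if m = χ₀ then d a else 0)
    (χ : N →* B) (b : B) (hb : b * b = 0) :
    cj v χ (spMap (tpt d h1 hd b hb)) =
      spMap (tpt d h1 hd (χ χ₀ * b) (by linear_combination (χ χ₀ * χ χ₀) * hb)) := by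
  classical
  rw [cj_eq]
  refine congrArg spMap (AlgHom.ext fun a => ?_)
  rw [evAct_apply]
  simp only [tpt_apply, add_mul, Finsupp.sum_add]
  congr 1
  · rw [Finsupp.sum, Finset.sum_eq_single 1]
    · rw [show χ 1 = 1 from map_one χ, mul_one]
      congr 1
      have h := congrArg (Bialgebra.counitAlgHom k A) (sum_proj v a)
      rw [map_finsuppSum, Finsupp.sum, Finset.sum_eq_single 1] at h
      · exact h
      · exact fun j _ hj => counit_proj v j hj a
      · intro h0; simp [Finsupp.notMem_support_iff.1 h0]
    · intro j _ hj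
      rw [← proj_apply, counit_proj v j hj, map_zero, zero_mul]
    · intro h0; simp [Finsupp.notMem_support_iff.1 h0]
  · rw [Finsupp.sum, Finset.sum_eq_single χ₀]
    · rw [← proj_apply, hχ, if_pos rfl, smul_mul_assoc, mul_comm]
    · intro j _ hj
      rw [← proj_apply, hχ, if_neg hj, zero_smul, zero_mul]
    · intro h0; simp [Finsupp.notMem_support_iff.1 h0]

include h1 hd in
/-- A tangent vector of nonzero weight contradicts nilpotence. -/
theorem tangent_eq_zero [IsMonHom v] (χ₀ : N) (hχ0 : χ₀ ≠ 1)
    (hχ : ∀ m a, d (proj v m a) = if m = χ₀ then d a else 0)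
    (hnil : ∃ n : ℕ, ∀ X : Over (Spec (CommRingCat.of k)),
      (⊤ : Subgroup (X ⟶ AG k A)).lowerCentralSeries n = ⊥) : d = 0 := by
  classical
  obtain ⟨n, hn⟩ := hnil
  have key : ∀ n : ℕ, ∃ (D : Type u) (_ : CommRing D) (_ : Algebra k D) (b : D) (hb : b * b = 0), b ≠ 0 ∧
      spMap (tpt d h1 hd b hb) ∈ (⊤ : Subgroup (Pt (AG k A) D)).lowerCentralSeries n := by
    intro n
    induction n with
    | zero =>
      exact ⟨TrivSqZeroExt k k, inferInstance, inferInstance, TrivSqZeroExt.inr 1,
        TrivSqZeroExt.inr_mul_inr _ _ _, fun h => one_ne_zero (α := k) (TrivSqZeroExt.inr_injective (R := k) (h.trans (TrivSqZeroExt.inr_zero k).symm)),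
        Subgroup.mem_top _⟩
    | succ n ih =>
      obtain ⟨D, _, _, b, hb, hb0, hmem⟩ := ih
      let D' := MonoidAlgebra D N
      let ι₀ : D →ₐ[k] D' := singleOneAlgHom
      let e : D' := MonoidAlgebra.of D N χ₀
      have hι : ι₀ b * ι₀ b = 0 := by rw [← map_mul, hb, map_zero]
      refine ⟨D', inferInstance, inferInstance, (1 - e) * ι₀ b, by linear_combination ((1 - e) * (1 - e)) * hι,
        ?_, ?_⟩
      · intro h
        have h' : (1 - single χ₀ (1 : D)) * single 1 b = (0 : MonoidAlgebra D N) := h
        have := congrArg (fun z => z.coeff χ₀) h'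
        simp [sub_mul, single_mul_single, Ne.symm hχ0, hχ0] at this
        exact hb0 this
      · let f : Pt (AG k A) D →* Pt (AG k A) D' :=
          MonoidHom.mk' (fun q => spMap ι₀ ≫ q) (fun p q => MonObj.comp_mul _ _ _)
        have hmem' : spMap (tpt d h1 hd (ι₀ b) hι) ∈
            (⊤ : Subgroup (Pt (AG k A) D')).lowerCentralSeries n := by
          have h' := Subgroup.mem_map_of_mem f hmem
          rw [Subgroup.map_lowerCentralSeries] at h'
          have h'' := Subgroup.lowerCentralSeries_mono n le_top h'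
          convert h'' using 1
          show _ = spMap ι₀ ≫ spMap (tpt d h1 hd b hb)
          rw [spMap_comp, tpt_comp]
        rw [Subgroup.lowerCentralSeries_succ]
        let p : Pt (AG k A) D' := spMap (tpt d h1 hd (ι₀ b) hι)
        let q : Pt (AG k A) D' := chPt v (MonoidAlgebra.of D N)
        have hinv : p⁻¹ = spMap (tpt d h1 hd (-ι₀ b) (by linear_combination hι)) := by
          refine inv_eq_of_mul_eq_one_right ?_
          rw [tpt_mul d h1 hd _ _ _ _ (by linear_combination -hι) (by simp), ← tpt_zero d h1 hd]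
          simp
        have hc : ⁅p, q⁆ = spMap (tpt d h1 hd ((1 - e) * ι₀ b)
            (by linear_combination ((1 - e) * (1 - e)) * hι)) := by
          rw [commutatorElement_def, show p * q * p⁻¹ * q⁻¹ = p * cj v (MonoidAlgebra.of D N) p⁻¹ by
            simp only [cj, q, mul_assoc]]
          rw [hinv, cj_tpt v d h1 hd χ₀ hχ, tpt_mul d h1 hd _ _ _ _ (by linear_combination (-e) * hι)
            (by linear_combination ((1 - e) * (1 - e)) * hι)]
          simp only [e]
          congr 2
          ring
        rw [← hc]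
        exact Subgroup.commutator_mem_commutator hmem' (Subgroup.mem_top _)
  obtain ⟨D, _, _, b, hb, hb0, hmem⟩ := key n
  rw [hn, Subgroup.mem_bot, pt_one] at hmem
  refine LinearMap.ext fun a => ?_
  have h := AlgHom.congr_fun (spMap_inj hmem) a
  simp [tpt_apply, Algebra.ofId_apply] at h
  exact h.resolve_right hb0

end Tangent

/-- The nontrivial weights vanish modulo the square of the augmentation ideal. -/
theorem proj_mem_sq [IsMonHom v] (hnil : ∃ n : ℕ, ∀ X : Over (Spec (CommRingCat.of k)),
      (⊤ : Subgroup (X ⟶ AG k A)).lowerCentralSeries n = ⊥) (m : N) (hm : m ≠ 1) (a : A) :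
    proj v m a ∈ (aug A (k := k)) ^ 2 := by
  classical
  let U : Submodule k A := ((aug A (k := k)) ^ 2).restrictScalars k ⊔ Submodule.span k {(1 : A)}
  by_contra hmem
  have hnot : proj v m a ∉ U := by
    intro h
    obtain ⟨i, hi, o, ho, e⟩ := Submodule.mem_sup.1 h
    obtain ⟨c, rfl⟩ := Submodule.mem_span_singleton.1 ho
    have hc := congrArg (Bialgebra.counitAlgHom k A) e
    rw [map_add, counit_proj v m hm, RingHom.mem_ker.1 (Ideal.pow_le_self two_ne_zero hi), zero_add, map_smul,
      map_one, smul_eq_mul, mul_one] at hc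
    rw [hc, zero_smul, add_zero] at e
    exact hmem (e ▸ hi)
  obtain ⟨w, hw, hwU⟩ := Submodule.exists_dual_map_eq_bot_of_notMem hnot inferInstance
  have hwU' : ∀ x ∈ U, w x = 0 := fun x hx => by
    have : w x ∈ U.map w := Submodule.mem_map_of_mem hx
    rwa [hwU, Submodule.mem_bot] at this
  let d : A →ₗ[k] k := w.comp (proj v m)
  have hψ1 : proj v m 1 = 0 := by simp [proj_apply, map_one, MonoidAlgebra.one_def, Ne.symm hm]
  have hsq : ∀ x ∈ (aug A (k := k)) ^ 2, d x = 0 := by
    intro x hx
    refine hwU' _ (Submodule.mem_sup_left ?_)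
    have hle : (aug A (k := k)).map (ψ v : A →+* MonoidAlgebra A N) ≤
        (aug A (k := k)).map (singleOneRingHom : A →+* MonoidAlgebra A N) :=
      Ideal.map_le_iff_le_comap.2 fun c hc => ψ_mem v hc
    have h' := Ideal.mem_map_of_mem (ψ v : A →+* MonoidAlgebra A N) hx
    rw [Ideal.map_pow] at h'
    have h'' := Ideal.pow_right_mono hle 2 h'
    rw [← Ideal.map_pow] at h''
    exact coeff_mem h'' m
  have h1 : d 1 = 0 := by simp [d, hψ1]
  have hd : ∀ x c : A, d (x * c) =
      Bialgebra.counitAlgHom k A x * d c + Bialgebra.counitAlgHom k A c * d x := by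
    intro x c
    let ε := Bialgebra.counitAlgHom k A
    have hI : ∀ y : A, y - algebraMap k A (ε y) ∈ aug A (k := k) := fun y => by simp [ε]
    have h0 := hsq _ (by rw [sq]; exact Ideal.mul_mem_mul (hI x) (hI c) :
      (x - algebraMap k A (ε x)) * (c - algebraMap k A (ε c)) ∈ (aug A (k := k)) ^ 2)
    rw [show (x - algebraMap k A (ε x)) * (c - algebraMap k A (ε c)) =
      x * c - ε x • c - ε c • x + (ε x * ε c) • 1 by
        simp only [Algebra.smul_def, map_mul]; ring] at h0
    simp only [map_add, map_sub, map_smul, h1, smul_eq_mul, mul_zero, add_zero] at h0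
    linear_combination h0
  have hχ : ∀ j x, d (proj v j x) = if j = m then d x else 0 := by
    intro j x
    simp only [d, LinearMap.comp_apply, proj_proj]
    split_ifs with e
    · rw [e]
    · rw [map_zero]
  refine hw ?_
  have h := LinearMap.congr_fun (tangent_eq_zero v d h1 hd m hm hχ hnil) (proj v m a)
  rw [hχ, if_pos rfl] at h
  exact h

/-- The conjugation is trivial to all orders. -/
theorem ψ_trivial [IsMonHom v] [IsAlgClosed k] [Algebra.FiniteType k A]
    (hconn : ∀ e : A, IsIdempotentElem e → e = 0 ∨ e = 1)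
    (hnil : ∃ n : ℕ, ∀ X : Over (Spec (CommRingCat.of k)),
      (⊤ : Subgroup (X ⟶ AG k A)).lowerCentralSeries n = ⊥) :
    ψ v = MonoidAlgebra.singleOneAlgHom := by
  classical
  let I := aug A (k := k)
  let s : A →+* MonoidAlgebra A N := singleOneRingHom
  have base : ∀ a, ψ v a - s a ∈ (I ^ 2).map s := by
    intro a
    refine mem_of_coeff fun m => ?_
    by_cases hm : m = 1
    · subst hm
      have h := sum_proj v a
      rw [← Finsupp.add_sum_erase' (ψ v a).coeff 1 (fun _ c => c) (fun _ => rfl)] at h
      have : (ψ v a - s a).coeff 1 = -(((ψ v a).coeff.erase 1).sum fun _ c => c) := by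
        simp only [s, singleOneRingHom, MonoidAlgebra.coeff_sub, Finsupp.sub_apply]
        simp only [MonoidHom.coe_mk, RingHom.coe_mk, OneHom.coe_mk]
        simp
        linear_combination h
      rw [this]
      refine neg_mem (Ideal.sum_mem _ fun j hj => ?_)
      have hj' : j ≠ 1 := by simp at hj; exact hj.1
      rw [Finsupp.erase_ne hj']
      exact proj_mem_sq v hnil j hj' a
    · have : (ψ v a - s a).coeff m = proj v m a := by
        simp [s, singleOneRingHom, proj_apply, Finsupp.single_eq_of_ne hm]
      rw [this]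
      exact proj_mem_sq v hnil m hm a
  have hstep : ∀ (j : ℕ), ∀ a ∈ I ^ j, ψ v a - s a ∈ (I ^ (j + 1)).map s := by
    intro j
    induction j with
    | zero => exact fun a _ => (Ideal.map_mono (Ideal.pow_le_pow_right (by norm_num : 1 ≤ 2))) (base a)
    | succ j ih =>
      intro a ha
      rw [pow_succ] at ha
      refine Submodule.mul_induction_on ha (fun x hx c hc => ?_) (fun x y hx hy => ?_)
      · rw [show ψ v (x * c) - s (x * c) = (ψ v x - s x) * ψ v c + s x * (ψ v c - s c) by
          rw [map_mul, map_mul]; ring]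
        refine add_mem ?_ ?_
        · rw [pow_succ I (j + 1), Ideal.map_mul]
          exact Ideal.mul_mem_mul (ih x hx) (ψ_mem v hc)
        · rw [show j + 1 + 1 = j + 2 by ring, pow_add, Ideal.map_mul]
          exact Ideal.mul_mem_mul (Ideal.mem_map_of_mem _ hx) (base c)
      · rw [show ψ v (x + y) - s (x + y) = (ψ v x - s x) + (ψ v y - s y) by
          rw [map_add, map_add]; abel]
        exact add_mem hx hy
  have hall : ∀ (j : ℕ) (m : N), m ≠ 1 → ∀ a, proj v m a ∈ I ^ j := by
    intro j
    induction j with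
    | zero => intro m _ a; simp
    | succ j ih =>
      intro m hm a
      have h := coeff_mem (hstep j _ (ih m hm a)) m
      have hp := proj_proj v m m a
      rw [if_pos rfl, proj_apply] at hp
      simpa [s, singleOneRingHom, hm, Finsupp.single_eq_of_ne hm, hp] using h
  have hzero : ∀ (m : N), m ≠ 1 → ∀ a, proj v m a = 0 := fun m hm a => by
    have h : proj v m a ∈ ⨅ j : ℕ, I ^ j := by
      simp only [Ideal.mem_iInf]
      exact fun j => hall j m hm a
    rwa [HopfKrull.iInf_pow_eq_bot hconn, Submodule.mem_bot] at h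
  refine AlgHom.ext fun a => MonoidAlgebra.ext (Finsupp.ext fun m => ?_)
  by_cases hm : m = 1
  · subst hm
    have h := sum_proj v a
    rw [Finsupp.sum, Finset.sum_eq_single (f := fun j => (ψ v a).coeff j) 1 (fun j _ hj => (hzero j hj a : (ψ v a).coeff j = 0))
      (fun h0 => by simp [Finsupp.notMem_support_iff.1 h0])] at h
    exact h.trans (by simp [singleOneAlgHom_apply])
  · rw [← proj_apply, hzero m hm a]
    simp [singleOneAlgHom_apply, hm]

/-- Split groups of multiplicative type in connected nilpotent groups are central. -/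
theorem comm_split [IsMonHom v] [IsAlgClosed k] [Algebra.FiniteType k A]
    (hconn : ∀ e : A, IsIdempotentElem e → e = 0 ∨ e = 1)
    (hnil : ∃ n : ℕ, ∀ X : Over (Spec (CommRingCat.of k)),
      (⊤ : Subgroup (X ⟶ AG k A)).lowerCentralSeries n = ⊥)
    (X : Over (Spec (CommRingCat.of k))) (x : X ⟶ DH k N) (g : X ⟶ AG k A) :
    (x ≫ v) * g = g * (x ≫ v) := by
  have key : (fst (DH k N) (AG k A) ≫ v) * snd _ _ = snd _ _ * (fst (DH k N) (AG k A) ≫ v) := by
    change (fst (DH k N) (aT k A) ≫ v) * (snd (DH k N) (aT k A) : DH k N ⊗ aT k A ⟶ AG k A) =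
      snd (DH k N) (aT k A) * (fst (DH k N) (aT k A) ≫ v)
    rw [← cancel_epi (kpt k N A), MonObj.comp_mul, MonObj.comp_mul, ← Category.assoc, kpt, lift_fst, lift_snd]
    obtain ⟨χ, hχ⟩ := (MonoidAlgebra.lift k (MonoidAlgebra A N) N).surjective (ιM k N A)
    rw [← hχ]
    change chPt v χ * spMap (ιC k N A) = spMap (ιC k N A) * chPt v χ
    have h := cj_eq v χ (ιC k N A)
    rw [ψ_trivial v hconn hnil, evAct_trivial] at h
    exact mul_inv_eq_iff_eq_mul.1 h
  have h := congrArg (fun q => lift x g ≫ q) key
  simp only [MonObj.comp_mul, lift_fst_assoc, lift_snd] at h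
  exact h

end Groth.Agent.GrpNilCentral
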