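import Groth.Agent.GrpNilCentral.Alg
import Groth.Agent.MTBridge.NilConj
import Groth.Agent.MTBridge.Charts
import Groth.Agent.MultT.TorsionDiag
import Groth.Agent.MultT.ConnFibre
import Groth.Agent.AVDeg.TateSat
import Groth.Agent.Rigid.FibreTranslate
import Groth.Agent.Chev.RedCentre

/-!
# Subgroups of multiplicative type of connected nilpotent affine groups are central
-/

set_option autoImplicit false
set_option linter.style.haveILetI false
set_option backward.isDefEq.respectTransparency false
set_option maxHeartbeats 1000000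
set_option synthInstance.maxHeartbeats 400000

universe u

open CategoryTheory CategoryTheory.Limits MonoidalCategory CartesianMonoidalCategory AlgebraicGeometry
open scoped CategoryTheory.Obj MonObj

noncomputable section

namespace Groth.Agent.GrpNilCentral

open Groth.Agent.MTBridge Groth.Agent.GrpHomRep

variable {k : Type u} [Field k]

/-- Nilpotence of the points passes to groups whose points embed. -/
theorem lcs_eq_bot {P Q : Type*} [Group P] [Group Q] (φ : P →* Q) (hφ : Function.Injective φ) {n : ℕ}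
    (h : (⊤ : Subgroup Q).lowerCentralSeries n = ⊥) : (⊤ : Subgroup P).lowerCentralSeries n = ⊥ := by
  rw [← Subgroup.map_eq_bot_iff_of_injective _ hφ, Subgroup.map_lowerCentralSeries, ← le_bot_iff, ← h]
  exact Subgroup.lowerCentralSeries_mono n le_top

/-- **Subgroups of multiplicative type of connected nilpotent affine groups are central.** -/
theorem central (G : Over (Spec (CommRingCat.of k))) [GrpObj G] [IsAffine G.left] [LocallyOfFiniteType G.hom]
    [ConnectedSpace ↥G.left]
    (hnil : ∃ n : ℕ, ∀ X : Over (Spec (CommRingCat.of k)), (⊤ : Subgroup (X ⟶ G)).lowerCentralSeries n = ⊥)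
    (M' : Over (Spec (CommRingCat.of k))) [GrpObj M'] (m' : M' ⟶ G) [IsMonHom m'] (hM : SGA3x.IsMultTypeFT M')
    (X : Over (Spec (CommRingCat.of k))) (x : X ⟶ M') (g : X ⟶ G) : (x ≫ m') * g = g * (x ≫ m') := by
  let K := AlgebraicClosure k
  let f : Spec (CommRingCat.of K) ⟶ Spec (CommRingCat.of k) := AVDeg.specMap k K
  let F := Over.pullback f
  haveI : IsAffine (Red.bc f G).left := inferInstanceAs (IsAffine (pullback G.hom f))
  haveI : LocallyOfFiniteType (Red.bc f G).hom :=
    inferInstanceAs (LocallyOfFiniteType (pullback.snd G.hom f))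
  haveI : ConnectedSpace ↥(Red.bc f G).left := by
    haveI := Rigid.geometricallyConnected_of_section G.hom η[G].left (Over.w η[G])
    exact GeometricallyConnected.geometrically_connectedSpace (f := G.hom) _ _ _ (IsPullback.of_hasPullback G.hom f)
  obtain ⟨A, _, e, he⟩ := Groth.Agent.FinHopf.exists_hopf (R := CommRingCat.of K) (Red.bc f G)
  haveI := he
  haveI : IsIso e.hom.left := ((Over.forget _).mapIso e).isIso_hom
  haveI : Algebra.FiniteType K A := by
    have h0 : LocallyOfFiniteType (e.hom.left ≫ (Red.bc f G).hom) := inferInstance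
    rw [Over.w e.hom] at h0
    exact RingHom.finiteType_algebraMap.1 ((HasRingHomProperty.Spec_iff (P := @LocallyOfFiniteType)).1 h0)
  haveI : ConnectedSpace (PrimeSpectrum A) :=
    (e.hom.left.homeomorph.connectedSpace_iff).2 inferInstance
  have hconn : ∀ a : A, IsIdempotentElem a → a = 0 ∨ a = 1 := fun a ha =>
    MultT.idempotent_trivial_of_connected ha
  have hnilA : ∃ n : ℕ, ∀ Y : Over (Spec (CommRingCat.of K)),
      (⊤ : Subgroup (Y ⟶ AG K A)).lowerCentralSeries n = ⊥ := by
    obtain ⟨n, hn⟩ := hnil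
    refine ⟨n, fun Y => ?_⟩
    refine lcs_eq_bot (MonoidHom.mk' (fun p : Y ⟶ AG K A => fromBC f (p ≫ e.hom))
      (fun p q => by rw [MonObj.mul_comp, fromBC_mul])) (fun p q h => ?_) (hn _)
    exact (cancel_mono e.hom).1 (((Over.mapPullbackAdj f).homEquiv Y G).symm.injective h)
  obtain ⟨B, _, _, hB, hBf, ⟨eB⟩⟩ := MTBridge.exists_hopf (Red.bc f M') (isMultTypeFT_bc M' f hM)
  haveI := hBf
  obtain ⟨N, _, ⟨eN⟩⟩ := MultT.isDiag_of_isSepClosed hB
  obtain ⟨eN'⟩ := nonempty_specGrp_iso eN
  let i : specGrp K (MonoidAlgebra K N) ≅ Grp.mk (Red.bc f M') := eN' ≪≫ eB.symm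
  haveI : IsIso i.hom.hom.hom := inferInstanceAs (IsIso ((Grp.forget _).map i.hom))
  haveI : IsMonHom i.hom.hom.hom := i.hom.hom.isMonHom_hom
  haveI : IsMonHom e.inv := inferInstance
  let v : DH K N ⟶ AG K A := i.hom.hom.hom ≫ F.map m' ≫ e.inv
  haveI : IsMonHom v := inferInstanceAs (IsMonHom (i.hom.hom.hom ≫ F.map m' ≫ e.inv))
  have key : ∀ (Y : Over (Spec (CommRingCat.of K))) (p : Y ⟶ Red.bc f M') (q : Y ⟶ Red.bc f G),
      (p ≫ F.map m') * q = q * (p ≫ F.map m') := by
    intro Y p q
    have h := comm_split v hconn hnilA Y (p ≫ CategoryTheory.inv i.hom.hom.hom) (q ≫ e.inv)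
    simp only [v, Category.assoc, IsIso.inv_hom_id_assoc] at h
    rw [← Category.assoc p (F.map m') e.inv, ← MonObj.mul_comp, ← MonObj.mul_comp, cancel_mono] at h
    exact h
  have univ : (fst M' G ≫ m') * snd M' G = snd M' G * (fst M' G ≫ m') := by
    apply AVDeg.bc_map_injective K
    show F.map _ = F.map _
    rw [Functor.map_mul, Functor.map_mul, F.map_comp]
    exact key _ (F.map (fst M' G)) (F.map (snd M' G))
  have h := congrArg (fun q => lift x g ≫ q) univ
  simp only [MonObj.comp_mul, lift_fst_assoc, lift_snd] at h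
  exact h

/-- **The largest subgroup of multiplicative type of a connected nilpotent affine group.** -/
theorem exists_largest (G : Over (Spec (CommRingCat.of k))) [GrpObj G] [IsAffine G.left] [LocallyOfFiniteType G.hom]
    [ConnectedSpace ↥G.left]
    (hnil : ∃ n : ℕ, ∀ X : Over (Spec (CommRingCat.of k)), (⊤ : Subgroup (X ⟶ G)).lowerCentralSeries n = ⊥) :
    ∃ (M : Over (Spec (CommRingCat.of k))) (_ : GrpObj M) (m : M ⟶ G), IsMonHom m ∧ IsClosedImmersion m.left ∧
      SGA3x.IsMultTypeFT M ∧
      (∀ (M' : Over (Spec (CommRingCat.of k))) [GrpObj M'] (m' : M' ⟶ G) [IsMonHom m'] [Mono m'],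
        SGA3x.IsMultTypeFT M' → ∃ f : M' ⟶ M, f ≫ m = m') ∧
      ∀ (X : Over (Spec (CommRingCat.of k))) (x : X ⟶ M) (g : X ⟶ G), (x ≫ m) * g = g * (x ≫ m) := by
  obtain ⟨C, hC, c, hc, hcc, hcu⟩ := Chev.RedCentre.exists_centre G
  haveI := hc
  haveI := hcc
  haveI : Mono c := (Over.forget _).mono_of_mono_map (inferInstanceAs (Mono c.left))
  haveI : IsAffine C.left := isAffine_of_isAffineHom c.left
  haveI : LocallyOfFiniteType C.hom := by rw [← Over.w c]; infer_instance
  obtain ⟨M, hMg, m, hm, hmc, hMT, hu⟩ := Chev.RedCentre.exists_multType_part C (fun X a b => by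
    refine (cancel_mono c).1 ?_
    rw [MonObj.mul_comp, MonObj.mul_comp]
    have h := (hcu X (a ≫ c)).1 ⟨a, rfl⟩ X (𝟙 X) (b ≫ c)
    rw [Category.id_comp] at h
    exact h.symm)
  haveI := hm
  haveI := hmc
  refine ⟨M, hMg, m ≫ c, inferInstanceAs (IsMonHom (m ≫ c)),
    inferInstanceAs (IsClosedImmersion (m.left ≫ c.left)), hMT, fun M' _ m' _ _ hM' => ?_, fun X x g => ?_⟩
  · obtain ⟨z, hz⟩ := (hcu M' m').2 fun X' a y => (central G hnil M' m' hM' X' a y).symm
    haveI : IsMonHom z :=
      ⟨(cancel_mono c).1 (by simp [Category.assoc, hz]), (cancel_mono c).1 (by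
        simp only [Category.assoc, hz, IsMonHom.mul_hom]
        rw [MonoidalCategory.tensorHom_comp_tensorHom_assoc, hz])⟩
    let j : Spec (CommRingCat.of k) ⟶ Spec (CommRingCat.of k) := 𝟙 _
    let v : Red.bc j M' ⟶ Red.bc j C := (Over.pullback j).map z
    obtain ⟨w, hw⟩ := hu _ j (Red.bc j M') v (isMultTypeFT_bc M' j hM')
    let E := Over.pullbackId (X := Spec (CommRingCat.of k))
    refine ⟨E.inv.app M' ≫ w ≫ E.hom.app M, ?_⟩
    rw [Category.assoc, Category.assoc, ← Category.assoc (E.hom.app M)]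
    have h1 := E.hom.naturality m
    simp only [Functor.id_map] at h1
    rw [← h1, Category.assoc, ← Category.assoc w, hw, ← Category.assoc (v)]
    have h2 := E.hom.naturality z
    simp only [Functor.id_map] at h2
    rw [h2, Category.assoc, hz, ← Category.assoc, ← NatTrans.comp_app, E.inv_hom_id, NatTrans.id_app]
    exact Category.id_comp _
  · rw [← Category.assoc]
    have h := (hcu X ((x ≫ m) ≫ c)).1 ⟨x ≫ m, rfl⟩ X (𝟙 X) g
    rw [Category.id_comp] at h
    exact h.symm

end Groth.Agent.GrpNilCentral
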